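import Mathlib
import Groth.Agent.RelAssLib.Sch
import Groth.Agent.RelAssLib.Trdeg
import Groth.Agent.FlatLocus.FibreStalk
import Groth.Agent.PullbackMod.Stalk
import Groth.Agent.DimFormulaLib.Misc

/-!
# Relative associated points and associated points of fibres
-/

set_option autoImplicit false
set_option backward.isDefEq.respectTransparency false
set_option linter.style.haveILetI false

universe u

open CategoryTheory CategoryTheory.Limits AlgebraicGeometry TensorProduct IsLocalRing Groth.Agent

namespace Groth.Agent.RelAssPtLib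

/-- Associated maximal ideal along a semilinear bijection, without finiteness. -/
theorem ass_iff_of_semilinear {R S M N : Type u} [CommRing R] [CommRing S] [IsLocalRing R] [IsLocalRing S]
    [AddCommGroup M] [AddCommGroup N] [Module R M] [Module S N]
    (φ : R →+* S) (hφ : Function.Surjective φ) (e : M ≃+ N) (h : ∀ r m, e (r • m) = φ r • e m) :
    IsAssociatedPrime (maximalIdeal R) M ↔ IsAssociatedPrime (maximalIdeal S) N := by
  haveI : IsLocalHom φ := Function.Surjective.isLocalHom φ hφ
  have hm : (maximalIdeal S).comap φ = maximalIdeal R := maximalIdeal_comap φ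
  have hc : ∀ v : M, (((⊥ : Submodule S N).colon {e v}).radical).comap φ =
      ((⊥ : Submodule R M).colon {v}).radical := fun v => by
    rw [Ideal.comap_radical]
    congr 1
    ext r
    rw [Ideal.mem_comap, Submodule.mem_colon_singleton, Submodule.mem_colon_singleton, Submodule.mem_bot,
      Submodule.mem_bot, ← h, e.map_eq_zero_iff]
  constructor
  · rintro ⟨-, v, hv⟩
    exact ⟨inferInstance, e v, Ideal.comap_injective_of_surjective φ hφ (by rw [hm, hc, hv])⟩
  · rintro ⟨-, w, hw⟩
    exact ⟨inferInstance, e.symm w, by rw [← hc, e.apply_symm_apply, ← hw, hm]⟩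

variable {X S : Scheme.{u}} (f : X ⟶ S)

/-- An associated point of a fibre is a relative associated point. -/
theorem isAssPoint_fibre_iff (F : X.Modules) [Coh.IsQCoh F] (s : S) (w : f.fiber s) (x : X) (hx : f.fiberι s w = x) :
    Curv2.IsAssPoint ((Scheme.Modules.pullback (f.fiberι s)).obj F) w ↔ x ∈ MoreMor.relAss f F := by
  subst hx
  let x := f.fiberι s w
  let B := X.presheaf.stalk x
  let B' := (f.fiber s).presheaf.stalk w
  let M := ((Scheme.Modules.pullback (f.fiberι s)).obj F).presheaf.stalk w
  letI : Algebra B B' := ((f.fiberι s).stalkMap w).hom.toAlgebra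
  letI : Module B M := Module.compHom M ((f.fiberι s).stalkMap w).hom
  haveI : IsScalarTower B B' M := .of_algebraMap_smul fun _ _ => rfl
  have hsurj : Function.Surjective (algebraMap B B') := FlatLocus.fiberι_stalkMap_surjective f s w
  let I := (maximalIdeal (S.presheaf.stalk (f x))).map (f.stalkMap x).hom
  have hker : RingHom.ker (algebraMap B B') = I := FlatLocus.ker_fiberι_stalkMap f s w
  let c : (B ⧸ I) ≃ₐ[B] B' :=
    (Ideal.quotientEquivAlgOfEq B hker.symm).trans (Ideal.quotientKerAlgEquivOfSurjective (f := Algebra.ofId B B') hsurj)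
  let l : (F.presheaf.stalk x ⧸ I • (⊤ : Submodule B (F.presheaf.stalk x))) ≃ₗ[B] M :=
    (TensorProduct.quotTensorEquivQuotSMul (F.presheaf.stalk x) I).symm.trans
      ((TensorProduct.congr c.toLinearEquiv (LinearEquiv.refl _ _)).trans
        ((PullbackMod.isBaseChange_pullStalkL (f.fiberι s) F w).equiv.restrictScalars B))
  exact (ass_iff_of_semilinear _ hsurj l.toAddEquiv fun r m => l.map_smul r m).symm

variable [LocallyOfFiniteType f] {S' : Scheme.{u}} (g : S' ⟶ S)

/-- Relative associated points after base change. -/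
theorem mem_relAss_baseChange_iff (F : X.Modules) [Coh.IsQCoh F] (x' : ↥(pullback f g)) :
    x' ∈ MoreMor.relAss (pullback.snd f g) ((Scheme.Modules.pullback (pullback.fst f g)).obj F) ↔
      pullback.fst f g x' ∈ MoreMor.relAss f F ∧
        ∀ x'' : ↥(pullback f g), pullback.snd f g x'' = pullback.snd f g x' →
          pullback.fst f g x'' = pullback.fst f g x' → x'' ⤳ x' → x'' = x' := by
  have hc : IsPullback (pullback.fst f g) (pullback.snd f g) f g := IsPullback.of_hasPullback f g
  haveI : LocallyOfFiniteType (pullback.snd f g) := MorphismProperty.pullback_snd _ _ inferInstance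
  obtain ⟨h1, -, h3⟩ := RelAssLib.relAss_baseChange f F hc
  constructor
  · intro hx
    refine ⟨h1 x' hx, fun x'' hs hg hsp => by_contra fun hne => ?_⟩
    obtain ⟨x₃, hx₃, hsp₃, hg₃, hs₃⟩ := h3 x'' (by rw [hg]; exact h1 x' hx)
    have hne' : x₃ ≠ x' := by
      rintro rfl
      exact hne (hsp.antisymm hsp₃).eq
    have hlt := DimFormulaLib.trdeg_lt_of_specializes (pullback.snd f g) x₃ x' (hsp₃.trans hsp) hne'
      (hs₃.trans hs)
    rw [RelAssLib.resTrdegAt_of_relAss f F hc hx, RelAssLib.resTrdegAt_of_relAss f F hc hx₃, hg₃, hg] at hlt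
    exact lt_irrefl _ hlt
  · rintro ⟨hx, hmax⟩
    obtain ⟨x₃, hx₃, hsp₃, hg₃, hs₃⟩ := h3 x' hx
    exact hmax x₃ hs₃ hg₃ hsp₃ ▸ hx₃

end Groth.Agent.RelAssPtLib
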